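import Groth.Agent.Lib.TopInv15.Base
import Groth.Agent.Lib.AlgSpace.Sub
import Groth.Agent.Lib.AlgSpDescent.LocalST

/-!
# Topological invariance of étale algebraic spaces: full faithfulness
-/

universe u

set_option backward.isDefEq.respectTransparency.types false

open CategoryTheory CategoryTheory.Limits AlgebraicGeometry Opposite

namespace Groth.Agent.TopInv15

open AlgSp Groth.Agent.AlgSpace Groth.Agent.AlgSpDecent

variable {S : Scheme.{u}}

theorem repWith_diag_of_etale {A B : Sp S} (hA : IsAlgSpace A) (hB : IsAlgSpace B) {a : A ⟶ B}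
    (ha : IsEtaleMor a) : RepWith @IsOpenImmersion (pullback.diagonal a) :=
  repWith_diagonal_isOpenImmersion_of_unramified hA hB
    (locP_mono (le_inf AlgSpDescent.etale_le_lft AlgSpDescent.etale_le_fu)
      (AlgSpDescent.locP_etale_of_isEtaleMor ha))

/-- Two maps to an étale space agreeing after a point-surjective map are equal. -/
theorem eq_of_comp_surjective {A B T T' : Sp S} (hA : IsAlgSpace A) (hB : IsAlgSpace B) {a : A ⟶ B}
    (ha : IsEtaleMor a) (c : T' ⟶ T) (hc : Function.Surjective (Points.map c)) {u v : T ⟶ A}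
    (h : c ≫ u = c ≫ v) (hab : u ≫ a = v ≫ a) : u = v := by
  let q := pullback.lift (f := a) (g := a) u v hab
  have e : c ≫ q = (c ≫ u) ≫ pullback.diagonal a := by
    apply pullback.hom_ext
    · simp [q, pullback.lift_fst]
    · simp [q, pullback.lift_snd, h]
  obtain ⟨l, hl⟩ := exists_factor_of_range (repWith_diag_of_etale hA hB ha) q (by
    rintro _ ⟨t, rfl⟩
    obtain ⟨t', rfl⟩ := hc t
    exact ⟨Points.map (c ≫ u) t', by rw [← Points.map_comp, ← e, Points.map_comp]⟩)
  have h₁ := hl =≫ pullback.fst a a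
  have h₂ := hl =≫ pullback.snd a a
  simp only [q, Category.assoc, pullback.diagonal_fst, pullback.diagonal_snd, pullback.lift_fst,
    pullback.lift_snd, Category.comp_id] at h₁ h₂
  rw [← h₁, ← h₂]

set_option maxHeartbeats 1600000 in
/-- Sections of étale spaces descend along universal homeomorphisms. -/
theorem exists_section {T T' G : Sp S} (hT : IsAlgSpace T) (hG : IsAlgSpace G) {g : T' ⟶ T}
    (hg : IsUH g) {e : G ⟶ T} (he : IsEtaleMor e) {G' : Sp S} {fst : G' ⟶ G} {snd : G' ⟶ T'}
    (sq : IsPullback fst snd e g) (s : T' ⟶ G') (hs : s ≫ snd = 𝟙 T') :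
    ∃ σ : T ⟶ G, σ ≫ e = 𝟙 T ∧ g ≫ σ = s ≫ fst := by
  have hT' : IsAlgSpace T' := isAlgSpace_of_representable hg.rep.1 hT
  have hG' : IsAlgSpace G' := isAlgSpace_pullback hT hG hT' sq
  have hsnd : IsEtaleMor snd := AlgSpDescent.isEtaleMor_of_locP_etale hG' hT'
    (locP_of_isPullback hG hT hT' sq (AlgSpDescent.locP_etale_of_isEtaleMor he))
  have hse : IsEtaleMor s := AlgSpDescent.isEtaleMor_of_locP_etale hT' hG'
    (AlgSpDescent.locP_etale_of_comp hT' hG' hT' (by rw [hs]; exact locP_id hT')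
      (AlgSpDescent.locP_etale_of_isEtaleMor hsnd))
  have : IsSplitMono s := ⟨⟨⟨snd, hs⟩⟩⟩
  have hso := repWith_openImmersion_of_isEtaleMor_mono hT' hG' s hse
  have hhom := hg.homeo hG sq.flip
  let W := Points.map fst '' Set.range (Points.map s)
  have hW : IsOpen W := hhom.isOpenMap _ (isOpen_range_map_of_openImmersion hso)
  have hι := repWith_openSubι hW
  have hO : IsAlgSpace (openSub W) := isAlgSpace_of_representable hι.1 hG
  obtain ⟨l, hl⟩ := exists_factor_openSub (W := W) (s ≫ fst) (by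
    rintro _ ⟨t, rfl⟩
    exact ⟨_, ⟨t, rfl⟩, (Points.map_comp _ _ _).symm⟩)
  let j := openSubι W ≫ e
  have hje : IsEtaleMor j := AlgSpDescent.isEtaleMor_of_locP_etale hO hT
    (locP_comp hO hG hT (locP_of_repWith hG (repWith_mono (fun A B k hk => by
      have : IsOpenImmersion k := hk
      infer_instance) hι)) (AlgSpDescent.locP_etale_of_isEtaleMor he))
  have hlj : l ≫ j = g := by
    rw [reassoc_of% hl, sq.w, reassoc_of% hs]
  have hgs : Function.Surjective (Points.map g) := surjective_map_of_repWith hg.surj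
  have : Mono j := by
    have hd := repWith_diag_of_etale hO hT hje
    have hd' : Function.Surjective (Points.map (pullback.diagonal j)) := by
      intro z
      obtain ⟨h, hh⟩ := surjective_of_isPullback
        (IsPullback.of_hasPullback g (pullback.fst j j ≫ j)) hgs z
      let P := pullback g (pullback.fst j j ≫ j)
      let t : P ⟶ T' := pullback.fst g _
      let z₁ : P ⟶ openSub W := pullback.snd g _ ≫ pullback.fst j j
      let z₂ : P ⟶ openSub W := pullback.snd g _ ≫ pullback.snd j j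
      have hz : ∀ w : P ⟶ openSub W, w ≫ j = t ≫ g → w = t ≫ l := by
        intro w hw
        let m : P ⟶ G' := sq.lift (w ≫ openSubι W) t (by rw [Category.assoc]; exact hw)
        obtain ⟨n, hn⟩ := exists_factor_of_range hso m (by
          rintro _ ⟨x, rfl⟩
          have hx : Points.map fst (Points.map m x) ∈ W := by
            rw [← Points.map_comp, sq.lift_fst, Points.map_comp]
            exact (range_openSubι W).le ⟨_, rfl⟩
          obtain ⟨y, hy, hye⟩ := hx
          rwa [← hhom.injective hye])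
        have hn' : n = t := by
          rw [← Category.comp_id n, ← hs, reassoc_of% hn, sq.lift_snd]
        subst hn'
        rw [← cancel_mono (openSubι W), Category.assoc, hl, reassoc_of% hn, sq.lift_fst]
      have h₁ : z₁ = t ≫ l := hz z₁ (by
        simp only [z₁, Category.assoc, t]; exact pullback.condition.symm)
      have h₂ : z₂ = t ≫ l := hz z₂ (by
        simp only [z₂, Category.assoc, t]; rw [← pullback.condition (f := j) (g := j)]
        exact pullback.condition.symm)
      refine ⟨Points.map (t ≫ l) h, ?_⟩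
      rw [← hh, ← Points.map_comp]
      refine congrArg (fun m => Points.map m h) ?_
      apply pullback.hom_ext
      · rw [Category.assoc, pullback.diagonal_fst, Category.comp_id]; exact h₁.symm
      · rw [Category.assoc, pullback.diagonal_snd, Category.comp_id]; exact h₂.symm
    have := isIso_of_isOpenImmersion_of_surjective hd hd'
    exact (pullback.isIso_diagonal_iff j).1 this
  have hjo := repWith_openImmersion_of_isEtaleMor_mono hO hT j hje
  have : IsIso j := isIso_of_isOpenImmersion_of_surjective hjo fun x => by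
    obtain ⟨y, rfl⟩ := hgs x
    exact ⟨Points.map l y, by rw [← Points.map_comp, hlj]⟩
  refine ⟨inv j ≫ openSubι W, by simp [j], ?_⟩
  rw [← Category.assoc, show g ≫ inv j = l by rw [IsIso.comp_inv_eq, hlj], hl]

/-- Morphisms between étale spaces descend along universal homeomorphisms. -/
theorem existsUnique_hom {X Y V₁' V₂' V₁ V₂ : Sp S} (hY : IsAlgSpace Y) (h₁ : IsAlgSpace V₁')
    (h₂ : IsAlgSpace V₂') {f : X ⟶ Y} (hf : IsUH f) {a₁ : V₁' ⟶ Y} {a₂ : V₂' ⟶ Y} {b₁ : V₁ ⟶ X}
    {b₂ : V₂ ⟶ X} {c₁ : V₁ ⟶ V₁'} {c₂ : V₂ ⟶ V₂'} (ha₂ : IsEtaleMor a₂)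
    (sq₁ : IsPullback b₁ c₁ f a₁) (sq₂ : IsPullback b₂ c₂ f a₂) (φ : V₁ ⟶ V₂) (hφ : φ ≫ b₂ = b₁) :
    ∃! φ' : V₁' ⟶ V₂', φ' ≫ a₂ = a₁ ∧ c₁ ≫ φ' = φ ≫ c₂ := by
  have hc : IsUH c₁ := hf.of_isPullback sq₁
  have hV₁ : IsAlgSpace V₁ := isAlgSpace_of_representable hc.rep.1 h₁
  have sqG := IsPullback.of_hasPullback a₂ a₁
  have hG : IsAlgSpace (pullback a₂ a₁) := isAlgSpace_pullback hY h₂ h₁ sqG
  have he : IsEtaleMor (pullback.snd a₂ a₁) := AlgSpDescent.isEtaleMor_of_locP_etale hG h₁
    (locP_of_isPullback h₂ hY h₁ sqG (AlgSpDescent.locP_etale_of_isEtaleMor ha₂))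
  have hw : (φ ≫ c₂) ≫ a₂ = c₁ ≫ a₁ := by
    rw [Category.assoc, ← sq₂.w, reassoc_of% hφ, sq₁.w]
  have sq := IsPullback.of_hasPullback (pullback.snd a₂ a₁) c₁
  obtain ⟨σ, hσ, hgσ⟩ := exists_section h₁ hG hc he sq
    (sq.lift (pullback.lift (φ ≫ c₂) c₁ hw) (𝟙 V₁) (by rw [pullback.lift_snd, Category.id_comp]))
    (sq.lift_snd _ _ _)
  refine ⟨σ ≫ pullback.fst a₂ a₁, ⟨?_, ?_⟩, fun ψ ⟨hψ₁, hψ₂⟩ => ?_⟩
  · rw [Category.assoc, pullback.condition, reassoc_of% hσ]
  · rw [reassoc_of% hgσ, sq.lift_fst_assoc, pullback.lift_fst]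
  · refine eq_of_comp_surjective h₂ hY ha₂ c₁ (surjective_map_of_repWith hc.surj) ?_ ?_
    · rw [hψ₂, reassoc_of% hgσ, sq.lift_fst_assoc, pullback.lift_fst]
    · rw [hψ₁, Category.assoc, pullback.condition, reassoc_of% hσ]

end Groth.Agent.TopInv15
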