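import Groth.Agent.Lib.TopInv15.Scheme
import Groth.Agent.Lib.EtFin.TopInvariance
import Groth.Prelude.Def_EtBase

/-!
# Topological invariance of the small étale site of a scheme
-/

universe u

set_option backward.isDefEq.respectTransparency.types false

open CategoryTheory CategoryTheory.Limits AlgebraicGeometry Opposite

namespace Groth.Agent.TopInv15

open AlgSp Groth.Agent.AlgSpace

variable {X Y : Scheme.{u}} (f : X ⟶ Y) [IsIntegralHom f] [UniversallyInjective f] [Surjective f]

/-- The base change functor is fully faithful. -/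
noncomputable def fullyFaithfulBc : (EtCoh.bc f).FullyFaithful := by
  let F := Scheme.Etale.forget Y ⋙ Over.pullback f
  let e : EtCoh.bc f ⋙ Scheme.Etale.forget X ≅ F :=
    MorphismProperty.Over.pullbackCompForgetIso (P := EtCoh.etaleMP) (Q := ⊤) f
  have hbij : ∀ U V : Y.Etale, Function.Bijective (F.map (X := U) (Y := V)) := fun U V => by
    have : AlgebraicGeometry.Etale ((Scheme.Etale.forget Y).obj V).hom := V.prop
    exact (EtFin.pullback_map_bijective f ((Scheme.Etale.forget Y).obj V) _).comp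
      (Functor.FullyFaithful.ofFullyFaithful (Scheme.Etale.forget Y)).homEquiv.bijective
  have : F.Full := ⟨fun {U V} => (hbij U V).2⟩
  have : F.Faithful := ⟨fun {U V} => (hbij U V).1⟩
  have : (EtCoh.bc f ⋙ Scheme.Etale.forget X).Full := Functor.Full.of_iso e.symm
  have : (EtCoh.bc f ⋙ Scheme.Etale.forget X).Faithful := Functor.Faithful.of_iso e.symm
  exact Functor.FullyFaithful.ofCompFaithful
    (G := Scheme.Etale.forget X) (Functor.FullyFaithful.ofFullyFaithful (EtCoh.bc f ⋙ Scheme.Etale.forget X))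

theorem isUH_yon {S : Scheme.{u}} {A B : Over S} (i : A ⟶ B) [IsIntegralHom i.left]
    [UniversallyInjective i.left] [Surjective i.left] : IsUH ((yon S).map i) :=
  ⟨(repWith_yon_map_iff _ _).2 ‹_›, (repWith_yon_map_iff _ _).2 ‹_›, (repWith_yon_map_iff _ _).2 ‹_›⟩

/-- An étale scheme over `X` is the base change of an étale scheme over `Y`. -/
theorem exists_etale_scheme {V : Scheme.{u}} (g : V ⟶ X) [Etale g] :
    ∃ (G : Scheme.{u}) (a : G ⟶ Y) (c : V ⟶ G), Etale a ∧ IsPullback g c f a := by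
  let T : Over Y := Over.mk (𝟙 Y)
  let X₀ : Over Y := Over.mk f
  let V₀ : Over Y := Over.mk (g ≫ f)
  let i : X₀ ⟶ T := Over.homMk f (Category.comp_id _)
  let g₀ : V₀ ⟶ X₀ := Over.homMk g rfl
  have : IsIntegralHom i.left := ‹IsIntegralHom f›
  have : UniversallyInjective i.left := ‹UniversallyInjective f›
  have : Surjective i.left := ‹Surjective f›
  have hi := isUH_yon i
  obtain ⟨V', hV', a, c, ha, sq⟩ := exists_etale_descent (IsAlgSpace.yon_obj X₀) (IsAlgSpace.yon_obj T)
    (IsAlgSpace.yon_obj V₀) hi ((yon Y).map g₀) ((isEtaleMor_yon_map_iff g₀).2 ‹Etale g›)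
  obtain ⟨G, ⟨e⟩⟩ := exists_iso_yon_of_baseChange i hi g₀ hV' a ha sq
  obtain ⟨a₀, ha₀⟩ := (yon Y).map_surjective (e.hom ≫ a)
  obtain ⟨c₀, hc₀⟩ := (yon Y).map_surjective (c ≫ e.inv)
  have sq' : IsPullback ((yon Y).map g₀) ((yon Y).map c₀) ((yon Y).map i) ((yon Y).map a₀) := by
    rw [ha₀, hc₀]
    exact IsPullback.of_iso sq (Iso.refl _) (Iso.refl _) e.symm (Iso.refl _)
      (by simp) (by simp) (by simp) (by simp)
  refine ⟨G.left, a₀.left, c₀.left, (isEtaleMor_yon_map_iff a₀).1 ?_,
    (IsPullback.of_map (yon Y) ((yon Y).map_injective (by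
      rw [Functor.map_comp, Functor.map_comp, sq'.w])) sq').map (Over.forget Y)⟩
  rw [ha₀]
  exact AlgSpDescent.isEtaleMor_of_locP_etale (IsAlgSpace.yon_obj G) (IsAlgSpace.yon_obj T)
    (locP_comp (IsAlgSpace.yon_obj G) hV' (IsAlgSpace.yon_obj T)
      (locP_of_repWith hV' ((repWith_respectsIso_left e.hom).2
        (MorphismProperty.id_mem (RepWith (S := Y) @Etale) V') |> fun h => by simpa using h))
      (AlgSpDescent.locP_etale_of_isEtaleMor ha))

theorem essSurj_bc : (EtCoh.bc f).EssSurj := by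
  refine ⟨fun V => ?_⟩
  have : AlgebraicGeometry.Etale V.hom := V.prop
  obtain ⟨G, a, c, ha, sq⟩ := exists_etale_scheme f V.hom
  refine ⟨Scheme.Etale.mk a, ⟨MorphismProperty.Over.isoMk sq.flip.isoPullback.symm ?_⟩⟩
  rw [Iso.symm_hom, Iso.inv_comp_eq]
  exact sq.flip.isoPullback_hom_snd.symm

end Groth.Agent.TopInv15
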