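import Groth.Agent.Lib.EtStalk.Integral
import Mathlib.AlgebraicGeometry.Limits
import Mathlib.FieldTheory.IsAlgClosed.AlgebraicClosure

/-!
# Étale schemes over the source of a universal homeomorphism are covered from the target
-/

universe u

open CategoryTheory CategoryTheory.Limits AlgebraicGeometry

namespace Groth.Agent.TopInv15

variable {X Y : Scheme.{u}} (f : X ⟶ Y) [IsIntegralHom f] [UniversallyInjective f] [Surjective f]

/-- A section on an open piece of a base change is a section on the base change of an open piece. -/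
theorem exists_open_piece {V U : Scheme.{u}} (g : V ⟶ X) (e : U ⟶ Y) [Etale e]
    (P : (pullback e f).Opens) (σ : (P : Scheme.{u}) ⟶ V) (hσ : σ ≫ g = P.ι ≫ pullback.snd e f)
    (p : (P : Scheme.{u})) (v : V) (hv : σ p = v) :
    ∃ (E : Scheme.{u}) (e : E ⟶ Y) (σ : pullback e f ⟶ V),
      Etale e ∧ σ ≫ g = pullback.snd e f ∧ v ∈ Set.range σ := by
  let π := pullback.fst e f
  have : UniversallyInjective π := MorphismProperty.pullback_fst _ _ ‹_›
  have hopen : IsOpenMap π := fun O hO => by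
    rw [← isClosed_compl_iff, ← Set.image_compl_eq ⟨π.injective, π.surjective⟩]
    exact π.isClosedMap _ hO.isClosed_compl
  let O : U.Opens := ⟨π '' (P : Set ↥(pullback e f)), hopen _ P.2⟩
  let j : pullback (O.ι ≫ e) f ⟶ pullback e f :=
    pullback.map _ _ _ _ O.ι (𝟙 X) (𝟙 Y) (by simp) (by simp)
  have hjf : ∀ z, π (j z) = O.ι (pullback.fst (O.ι ≫ e) f z) := fun z => by
    have h : j ≫ π = pullback.fst (O.ι ≫ e) f ≫ O.ι := pullback.lift_fst _ _ _
    rw [← Scheme.Hom.comp_apply, h, Scheme.Hom.comp_apply]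
  have hj : ∀ z, j z ∈ P := by
    intro z
    have : O.ι (pullback.fst (O.ι ≫ e) f z) ∈ O := (pullback.fst (O.ι ≫ e) f z).2
    rw [← hjf] at this
    obtain ⟨p', hp', hpe⟩ := this
    rwa [← π.injective hpe]
  let j' := IsOpenImmersion.lift P.ι j (by rintro _ ⟨z, rfl⟩; rw [P.range_ι]; exact hj z)
  have hj' : j' ≫ P.ι = j := IsOpenImmersion.lift_fac _ _ _
  refine ⟨O, O.ι ≫ e, j' ≫ σ, inferInstance, ?_, ?_⟩
  · rw [Category.assoc, hσ, ← Category.assoc, hj']
    exact (pullback.lift_snd _ _ _).trans (Category.comp_id _)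
  · have hpO : π (P.ι p) ∈ O := ⟨P.ι p, p.2, rfl⟩
    obtain ⟨z, hz⟩ := (pullback.fst (O.ι ≫ e) f).surjective ⟨_, hpO⟩
    refine ⟨z, ?_⟩
    have e₁ : j z = P.ι p := π.injective (by rw [hjf, hz]; rfl)
    have e₂ : j' z = p := P.ι.injective (by rw [← Scheme.Hom.comp_apply, hj', e₁])
    rw [Scheme.Hom.comp_apply, e₂, hv]

set_option backward.isDefEq.respectTransparency.types false in
/-- An étale `X`-scheme receives, near every point, a base change of an étale `Y`-scheme. -/
theorem exists_etale_section {V : Scheme.{u}} (g : V ⟶ X) [Etale g] (v : V) :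
    ∃ (E : Scheme.{u}) (e : E ⟶ Y) (σ : pullback e f ⟶ V),
      Etale e ∧ σ ≫ g = pullback.snd e f ∧ v ∈ Set.range σ := by
  let Ω := AlgebraicClosure (V.residueField v)
  let ξ : Spec (CommRingCat.of Ω) ⟶ V :=
    Spec.map (CommRingCat.ofHom (algebraMap (V.residueField v) Ω)) ≫ V.fromSpecResidueField v
  let t : Spec (CommRingCat.of Ω) := IsLocalRing.closedPoint Ω
  have hξ : ξ t = v := by
    simp only [ξ, Scheme.Hom.comp_apply]
    exact Scheme.fromSpecResidueField_apply _ _
  let η : Spec (CommRingCat.of Ω) ⟶ Y := (ξ ≫ g) ≫ f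
  let l : EtStalk.fLifts f η := ⟨ξ ≫ g, rfl⟩
  let V' : X.Etale := Scheme.Etale.mk g
  let w : EtStalk.fib η (EtCoh.top Y) := Over.homMk η (Category.comp_id _)
  let m : V' ⟶ (EtCoh.bc f).obj (EtCoh.top Y) :=
    MorphismProperty.Over.homMk (pullback.lift (g ≫ f) g (Category.comp_id _))
      (pullback.lift_snd _ _ _)
  let c : EtStalk.fib l.1 V' := Over.homMk ξ rfl
  have hc : (Scheme.pointSmallEtale l.1).fiber.map m c = EtStalk.liftAt f η w l := by
    refine Over.OverMorphism.ext (pullback.hom_ext ?_ ?_)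
    · refine ((Category.assoc _ _ _).trans (congrArg (ξ ≫ ·) (pullback.lift_fst _ _ _))).trans ?_
      exact (Category.assoc _ _ _).symm.trans (pullback.lift_fst _ _ _).symm
    · refine ((Category.assoc _ _ _).trans (congrArg (ξ ≫ ·) (pullback.lift_snd _ _ _))).trans ?_
      exact (pullback.lift_snd _ _ _).symm
  obtain ⟨U, -, -, P, σ, -, -, -, b, -, hb⟩ := EtStalk.exists_clopen_section f η w l m c hc
  have : AlgebraicGeometry.Etale U.hom := U.prop
  exact exists_open_piece f g U.hom P σ.left (MorphismProperty.Over.w σ) (b.left t) v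
    ((congrArg (fun k : EtStalk.fib l.1 V' => k.left t) hb).trans hξ)

/-- An étale `X`-scheme is covered by the base change of an étale `Y`-scheme. -/
theorem exists_etale_cover {V : Scheme.{u}} (g : V ⟶ X) [Etale g] :
    ∃ (E : Scheme.{u}) (e : E ⟶ Y) (σ : pullback e f ⟶ V),
      Etale e ∧ σ ≫ g = pullback.snd e f ∧ Etale σ ∧ Surjective σ := by
  choose E e σ he hσ hv using exists_etale_section f g
  let d : (∐ E) ⟶ Y := Sigma.desc e
  have hd : Etale d := IsZariskiLocalAtSource.sigmaDesc (P := @Etale) he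
  let 𝒰 := Scheme.Pullback.openCoverOfLeft (sigmaOpenCover E) d f
  let a : ∀ i, 𝒰.X i ⟶ V := fun i =>
    (pullback.congrHom (Sigma.ι_desc e i) rfl).hom ≫ σ i
  let s := 𝒰.glueMorphisms a (by
    intro i j
    rcases eq_or_ne i j with rfl | hij
    · have : Mono (𝒰.f i) := inferInstance
      rw [(cancel_mono (𝒰.f i)).1 (pullback.condition (f := 𝒰.f i) (g := 𝒰.f i))]
    · have : IsEmpty ↥(pullback (𝒰.f i) (𝒰.f j)) :=
        isEmpty_of_commSq_sigmaι_of_ne (g := E)
          (a := pullback.fst (𝒰.f i) (𝒰.f j) ≫ pullback.fst _ _)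
          (b := pullback.snd (𝒰.f i) (𝒰.f j) ≫ pullback.fst _ _) ⟨by
            have h := pullback.condition (f := 𝒰.f i) (g := 𝒰.f j) =≫ pullback.fst d f
            simp only [Category.assoc] at h ⊢
            rw [show 𝒰.f i ≫ pullback.fst d f = pullback.fst _ _ ≫ Sigma.ι E i from pullback.lift_fst _ _ _,
              show 𝒰.f j ≫ pullback.fst d f = pullback.fst _ _ ≫ Sigma.ι E j from pullback.lift_fst _ _ _] at h
            exact h⟩ hij
      exact isInitialOfIsEmpty.hom_ext _ _)
  have hs : ∀ i, 𝒰.f i ≫ s = a i := fun i => 𝒰.ι_glueMorphisms _ _ i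
  have hsg : s ≫ g = pullback.snd d f := 𝒰.hom_ext _ _ fun i => by
    rw [reassoc_of% (hs i)]
    simp only [a, Category.assoc]
    rw [hσ i]
    rw [pullback.congrHom_hom]
    exact ((pullback.lift_snd _ _ _).trans (Category.comp_id _)).trans
      ((pullback.lift_snd _ _ _).trans (Category.comp_id _)).symm
  have : Etale (s ≫ g) := by rw [hsg]; infer_instance
  refine ⟨_, d, s, hd, hsg, Etale.of_comp s g, ⟨fun x => ?_⟩⟩
  obtain ⟨z, hz⟩ := hv x
  refine ⟨𝒰.f x ((pullback.congrHom (Sigma.ι_desc e x) rfl).inv z), ?_⟩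
  rw [← Scheme.Hom.comp_apply, hs x]
  simp only [a]
  refine Eq.trans ?_ hz
  exact congrArg (fun k : pullback (e x) f ⟶ V => k z) (Iso.inv_hom_id_assoc _ (σ x))

end Groth.Agent.TopInv15
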