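import Groth.Agent.Lib.TopInv15.Quot
import Groth.Agent.Lib.TopInv15.Sch

/-!
# Topological invariance of étale algebraic spaces: existence
-/

universe u

set_option backward.isDefEq.respectTransparency.types false

open CategoryTheory CategoryTheory.Limits AlgebraicGeometry Opposite

namespace Groth.Agent.TopInv15

open AlgSp Groth.Agent.AlgSpace Groth.Agent.AlgSpDecent

variable {S : Scheme.{u}}

set_option maxHeartbeats 1600000 in
/-- Over a scheme over `Y`, an étale scheme upstairs is covered by a base change. -/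
theorem exists_cover_over {U₀ X₀ W₀ : Over S} (i : X₀ ⟶ U₀) (g : W₀ ⟶ X₀) [Etale g.left]
    (hi : IsIntegralHom i.left ∧ UniversallyInjective i.left ∧ Surjective i.left) :
    ∃ (E EX : Over S) (e : E ⟶ U₀) (π : EX ⟶ E) (k : EX ⟶ X₀) (σ : EX ⟶ W₀),
      Etale e.left ∧ IsPullback k π i e ∧ σ ≫ g = k ∧ Etale σ.left ∧ Surjective σ.left := by
  have := hi.1
  have := hi.2.1
  have := hi.2.2
  obtain ⟨E', e', σ', he, hσ, hσe, hσs⟩ := exists_etale_cover i.left g.left
  let E : Over S := Over.mk (e' ≫ U₀.hom)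
  let e : E ⟶ U₀ := Over.homMk e' rfl
  let EX : Over S := Over.mk (pullback.snd e' i.left ≫ X₀.hom)
  let k : EX ⟶ X₀ := Over.homMk (pullback.snd e' i.left) rfl
  let π : EX ⟶ E := Over.homMk (pullback.fst e' i.left) (by
    change pullback.fst e' i.left ≫ e' ≫ U₀.hom = pullback.snd e' i.left ≫ X₀.hom
    rw [pullback.condition_assoc, Over.w i])
  let σ : EX ⟶ W₀ := Over.homMk σ' (by
    change σ' ≫ W₀.hom = pullback.snd e' i.left ≫ X₀.hom
    rw [← Over.w g, ← Category.assoc, hσ])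
  refine ⟨E, EX, e, π, k, σ, he, ?_, Over.OverMorphism.ext hσ, hσe, hσs⟩
  exact IsPullback.of_map (Over.forget S) (Over.OverMorphism.ext pullback.condition.symm)
    (IsPullback.of_hasPullback e' i.left).flip

/-- Étale spaces over the source of a universal homeomorphism come from the target. -/
theorem exists_etale_descent {X Y V : Sp S} (hX : IsAlgSpace X) (hY : IsAlgSpace Y) (hV : IsAlgSpace V)
    {f : X ⟶ Y} (hf : IsUH f) (b : V ⟶ X) (hb : IsEtaleMor b) :
    ∃ (V' : Sp S) (_ : IsAlgSpace V') (a : V' ⟶ Y) (c : V ⟶ V'),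
      IsEtaleMor a ∧ IsPullback b c f a := by
  obtain ⟨U₀, η₀, hηe, hηs⟩ := hY.atlas
  let X₀ := hf.rep.1.pullback η₀
  let i : X₀ ⟶ U₀ := hf.rep.1.snd η₀
  let x₀ := hf.rep.1.fst η₀
  have sqX : IsPullback x₀ ((yon S).map i) f η₀ := hf.rep.1.isPullback η₀
  obtain ⟨W, ω, hωe, hωs⟩ := hV.atlas
  have hωb : RepWith @Etale (ω ≫ b) := hb ω hωe
  let W₀ := hωb.1.pullback x₀
  let g : W₀ ⟶ X₀ := hωb.1.snd x₀
  have sqW : IsPullback (hωb.1.fst x₀) ((yon S).map g) (ω ≫ b) x₀ := hωb.1.isPullback x₀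
  have : Etale g.left := hωb.2 _ _ _ sqW
  obtain ⟨E, EX, e, π, k, σ, he, sqE, hσ, hσe, hσs⟩ := exists_cover_over i g (hf.sch sqX)
  have hx₀e : RepWith @Etale x₀ := repWith_of_isPullback sqX.flip hηe
  have hx₀s : RepWith @Surjective x₀ := repWith_of_isPullback sqX.flip hηs
  refine exists_descend (E := E) (EX := EX) (ε := (yon S).map e ≫ η₀) (π := π)
    (p := (yon S).map k ≫ x₀) (ν := (yon S).map σ ≫ hωb.1.fst x₀ ≫ ω) hY hX hV hf
    ((sqE.map (yon S)).paste_horiz sqX) ?_ ?_ ?_ ?_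
  · exact repWith_comp ((repWith_yon_map_iff _ _).2 he) hηe
  · exact repWith_comp ((repWith_yon_map_iff _ _).2 hσe)
      (repWith_comp (repWith_of_isPullback sqW.flip hx₀e) hωe)
  · exact repWith_comp ((repWith_yon_map_iff _ _).2 hσs)
      (repWith_comp (repWith_of_isPullback sqW.flip hx₀s) hωs)
  · simp only [← hσ, Functor.map_comp, Category.assoc]
    rw [sqW.w]

end Groth.Agent.TopInv15
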