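import Groth.Agent.Lib.AlgSpace.EtaleApps
import Groth.Agent.Lib.AlgSpace.Affine
import Groth.Agent.Lib.UnivHomeo.Basic

/-!
# Integral, universally injective, surjective morphisms of algebraic spaces
-/

universe u

set_option backward.isDefEq.respectTransparency.types false

open CategoryTheory CategoryTheory.Limits AlgebraicGeometry Opposite

namespace Groth.Agent.TopInv15

open AlgSp Groth.Agent.AlgSpace Groth.Agent.AlgSpDecent

variable {S : Scheme.{u}}

/-- Representable by integral, universally injective, surjective morphisms of schemes. -/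
structure IsUH {X Y : Sp S} (f : X ⟶ Y) : Prop where
  rep : RepWith @IsIntegralHom f
  inj : RepWith @UniversallyInjective f
  surj : RepWith @Surjective f

theorem IsUH.of_mor {X Y : Sp S} {f : X ⟶ Y} (h1 : IsIntegralMor f) (h2 : IsUnivInjectiveMor f)
    (h3 : IsSurjectiveMor f) : IsUH f := by
  have h := isIntegralMor_iff_repWith.1 h1
  exact ⟨h, (repWith_universallyInjective_iff h.1).2 h2, repWith_surjective_of_map h.1 h3⟩

theorem IsUH.of_isPullback {X Y X' Y' : Sp S} {f : X ⟶ Y} (hf : IsUH f) {fst : X' ⟶ X}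
    {f' : X' ⟶ Y'} {g : Y' ⟶ Y} (sq : IsPullback fst f' f g) : IsUH f' :=
  ⟨repWith_of_isPullback sq hf.rep, repWith_of_isPullback sq hf.inj, repWith_of_isPullback sq hf.surj⟩

/-- Base changes to schemes are integral, universally injective and surjective. -/
theorem IsUH.sch {X Y : Sp S} {f : X ⟶ Y} (hf : IsUH f) {T T' : Over S} {fst : (yon S).obj T' ⟶ X}
    {π : T' ⟶ T} {g : (yon S).obj T ⟶ Y} (sq : IsPullback fst ((yon S).map π) f g) :
    IsIntegralHom π.left ∧ UniversallyInjective π.left ∧ Surjective π.left :=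
  ⟨hf.rep.2 g _ _ sq, hf.inj.2 g _ _ sq, hf.surj.2 g _ _ sq⟩

theorem isHomeomorph_of_isUH_hom {A B : Scheme.{u}} (π : A ⟶ B)
    (h : IsIntegralHom π ∧ UniversallyInjective π ∧ Surjective π) : IsHomeomorph π := by
  have := h.1
  have := h.2.1
  have := h.2.2
  have hopen : IsOpenMap π := fun O hO => by
    rw [← isClosed_compl_iff, ← Set.image_compl_eq ⟨π.injective, π.surjective⟩]
    exact π.isClosedMap _ hO.isClosed_compl
  exact ⟨π.continuous, hopen, π.injective, π.surjective⟩

theorem IsUH.isUnivHomeoMor {X Y : Sp S} {f : X ⟶ Y} (hf : IsUH f) : IsUnivHomeoMor f := by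
  refine (repWith_isUnivHomeo_iff hf.rep.1).1 ⟨hf.rep.1, fun U V g fst snd sq => ?_⟩
  obtain ⟨h1, h2, h3⟩ := hf.sch sq
  exact UH.isUnivHomeo_of snd.left

/-- Base changes to algebraic spaces are homeomorphisms on points. -/
theorem IsUH.homeo {X Y : Sp S} {f : X ⟶ Y} (hf : IsUH f) {Z Z' : Sp S} (hZ : IsAlgSpace Z)
    {fst : Z' ⟶ X} {snd : Z' ⟶ Z} {g : Z ⟶ Y} (sq : IsPullback fst snd f g) :
    IsHomeomorph (Points.map snd) :=
  hf.isUnivHomeoMor hZ g fst snd sq

end Groth.Agent.TopInv15
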