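import Groth.Agent.Lib.TopInv15.Base
import Groth.Agent.Lib.AlgSpace.Quot
import Groth.Agent.Lib.AlgSpace.Atlas
import Groth.Agent.Lib.AlgSpace.LqfDescent
import Groth.Agent.Lib.AlgSpDescent.Instances

/-!
# Descent of étale algebraic spaces along universal homeomorphisms, given a cover
-/

universe u

set_option backward.isDefEq.respectTransparency.types false

open CategoryTheory CategoryTheory.Limits AlgebraicGeometry Opposite

namespace Groth.Agent.TopInv15

open AlgSp Groth.Agent.AlgSpace Groth.Agent.AlgSpDecent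

variable {S : Scheme.{u}}

lemma yon_cancel {A B : Over S} {a b : A ⟶ B} (h : (yon S).map a = (yon S).map b) : a = b :=
  (yon S).map_injective h

section Rel

variable {X Y V : Sp S} {f : X ⟶ Y} {E EX : Over S} {ε : (yon S).obj E ⟶ Y} {π : EX ⟶ E}
  {p : (yon S).obj EX ⟶ X} {b : V ⟶ X} {ν : (yon S).obj EX ⟶ V}

variable (f ε π p ν) in
/-- Two maps to `E` have lifts identified in `V`, after every base change. -/
def Rel {T : Over S} (a b : T ⟶ E) : Prop :=
  (yon S).map a ≫ ε = (yon S).map b ≫ ε ∧ ∀ ⦃T' : Over S⦄ (v : T' ⟶ T) (x y : T' ⟶ EX),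
    x ≫ π = v ≫ a → y ≫ π = v ≫ b → (yon S).map x ≫ p = (yon S).map y ≫ p →
      (yon S).map x ≫ ν = (yon S).map y ≫ ν

theorem rel_equivalence (sq : IsPullback p ((yon S).map π) f ε) (T : Over S) :
    Equivalence (Rel ε π p ν (T := T)) where
  refl a := ⟨rfl, fun T' v x y hx hy hp => by
    rw [show x = y from yon_cancel (sq.hom_ext hp (by
      rw [← Functor.map_comp, ← Functor.map_comp, hx, hy]))]⟩
  symm := fun {a b} h => ⟨h.1.symm, fun T' v x y hx hy hp => (h.2 v y x hy hx hp.symm).symm⟩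
  trans := fun {a b c} h h' => ⟨h.1.trans h'.1, fun T' v x z hx hz hp => by
    obtain ⟨y, hy⟩ := (yon S).map_surjective (sq.lift ((yon S).map x ≫ p) ((yon S).map (v ≫ b)) (by
      rw [Category.assoc, sq.w, ← Category.assoc, ← Functor.map_comp, hx]
      simp only [Functor.map_comp, Category.assoc, h.1]))
    have hy1 : (yon S).map y ≫ p = (yon S).map x ≫ p := by rw [hy, sq.lift_fst]
    have hy2 : y ≫ π = v ≫ b := yon_cancel (by rw [Functor.map_comp, hy, sq.lift_snd])
    exact (h.2 v x y hx hy2 hy1.symm).trans (h'.2 v y z hy2 hz (hy1.trans hp))⟩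

end Rel

variable {X Y V : Sp S} {f : X ⟶ Y} {E EX : Over S} {ε : (yon S).obj E ⟶ Y} {π : EX ⟶ E}
  {p : (yon S).obj EX ⟶ X} {b : V ⟶ X} {ν : (yon S).obj EX ⟶ V}

set_option maxHeartbeats 1600000 in
/-- The descended equivalence relation. -/
theorem exists_relation (hY : IsAlgSpace Y) (hV : IsAlgSpace V) (hf : IsUH f)
    (sq : IsPullback p ((yon S).map π) f ε) (hε : RepWith @Etale ε) (hν : RepWith @Etale ν)
    (hνb : ν ≫ b = p) :
    ∃ (R : Over S) (t s : R ⟶ E), Etale t.left ∧ Etale s.left ∧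
      (∀ ⦃T : Over S⦄ (r r' : T ⟶ R), r ≫ t = r' ≫ t → r ≫ s = r' ≫ s → r = r') ∧
      (∀ ⦃T : Over S⦄ (x y : T ⟶ EX), (yon S).map x ≫ ν = (yon S).map y ≫ ν →
        ∃ r : T ⟶ R, r ≫ t = x ≫ π ∧ r ≫ s = y ≫ π) ∧
      ∀ ⦃T : Over S⦄ (x y : T ⟶ E), (∃ r : T ⟶ R, r ≫ t = x ∧ r ≫ s = y) ↔ Rel ε π p ν x y := by
  have sq₀' := hε.1.isPullback ε
  let R₀ := hε.1.pullback ε
  obtain ⟨t, ht⟩ := (yon S).map_surjective (hε.1.fst ε)
  let s : R₀ ⟶ E := hε.1.snd ε
  have sq₀ : IsPullback ((yon S).map t) ((yon S).map s) ε ε := ht ▸ sq₀'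
  have hte : Etale t.left := (repWith_yon_map_iff _ _).1 (repWith_of_isPullback sq₀.flip hε)
  have hse : Etale s.left := (repWith_yon_map_iff _ _).1 (repWith_of_isPullback sq₀ hε)
  let g₀ := (yon S).map t ≫ ε
  let R₀X := hf.rep.1.pullback g₀
  let π₀ : R₀X ⟶ R₀ := hf.rep.1.snd g₀
  let q₀ := hf.rep.1.fst g₀
  have sqX : IsPullback q₀ ((yon S).map π₀) f g₀ := hf.rep.1.isPullback g₀
  have hπ₀ := isHomeomorph_of_isUH_hom π₀.left (hf.sch sqX)
  obtain ⟨ρt, hρt⟩ := (yon S).map_surjective (sq.lift q₀ ((yon S).map (π₀ ≫ t)) (by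
    rw [sqX.w, Functor.map_comp, Category.assoc]))
  obtain ⟨ρs, hρs⟩ := (yon S).map_surjective (sq.lift q₀ ((yon S).map (π₀ ≫ s)) (by
    rw [sqX.w, Functor.map_comp, Category.assoc, ← sq₀.w]))
  have hρtp : (yon S).map ρt ≫ p = q₀ := by rw [hρt, sq.lift_fst]
  have hρsp : (yon S).map ρs ≫ p = q₀ := by rw [hρs, sq.lift_fst]
  have hρtπ : ρt ≫ π = π₀ ≫ t := yon_cancel (by rw [Functor.map_comp, hρt, sq.lift_snd])
  have hρsπ : ρs ≫ π = π₀ ≫ s := yon_cancel (by rw [Functor.map_comp, hρs, sq.lift_snd])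
  have hρte : Etale ρt.left := by
    have h : IsPullback ((yon S).map ρt) ((yon S).map π₀) ((yon S).map π) ((yon S).map t) :=
      IsPullback.of_right (by rw [hρtp]; exact sqX) (by rw [← Functor.map_comp, ← Functor.map_comp, hρtπ]) sq
    exact (repWith_yon_map_iff _ _).1 (repWith_of_isPullback h.flip ((repWith_yon_map_iff _ _).2 hte))
  have sqν' := hν.1.isPullback ν
  let R' := hν.1.pullback ν
  obtain ⟨t', ht'⟩ := (yon S).map_surjective (hν.1.fst ν)
  let s' : R' ⟶ EX := hν.1.snd ν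
  have sqν : IsPullback ((yon S).map t') ((yon S).map s') ν ν := ht' ▸ sqν'
  have ht'e : Etale t'.left := (repWith_yon_map_iff _ _).1 (repWith_of_isPullback sqν.flip hν)
  have hpp : (yon S).map t' ≫ p = (yon S).map s' ≫ p := by
    rw [← hνb, ← Category.assoc, ← Category.assoc, sqν.w]
  obtain ⟨k, hk⟩ := (yon S).map_surjective (sq₀.lift ((yon S).map (t' ≫ π)) ((yon S).map (s' ≫ π)) (by
    simp only [Functor.map_comp, Category.assoc, ← sq.w]
    rw [reassoc_of% hpp]))
  have hkt : k ≫ t = t' ≫ π := yon_cancel (by rw [Functor.map_comp, hk, sq₀.lift_fst])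
  have hks : k ≫ s = s' ≫ π := yon_cancel (by rw [Functor.map_comp, hk, sq₀.lift_snd])
  obtain ⟨j, hj⟩ := (yon S).map_surjective (sqX.lift ((yon S).map t' ≫ p) ((yon S).map k) (by
    simp only [g₀, Category.assoc]
    rw [sq.w, ← Functor.map_comp_assoc, ← Functor.map_comp_assoc, hkt]))
  have hjπ : j ≫ π₀ = k := yon_cancel (by rw [Functor.map_comp, hj, sqX.lift_snd])
  have hjq : (yon S).map j ≫ q₀ = (yon S).map t' ≫ p := by rw [hj, sqX.lift_fst]
  have hjt : j ≫ ρt = t' := yon_cancel (sq.hom_ext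
    (by rw [Functor.map_comp, Category.assoc, hρtp, hjq])
    (by rw [← Functor.map_comp, ← Functor.map_comp, Category.assoc, hρtπ, reassoc_of% hjπ, hkt]))
  have hjs : j ≫ ρs = s' := yon_cancel (sq.hom_ext
    (by rw [Functor.map_comp, Category.assoc, hρsp, hjq, hpp])
    (by rw [← Functor.map_comp, ← Functor.map_comp, Category.assoc, hρsπ, reassoc_of% hjπ, hks]))
  have : Mono j := ⟨fun {T} a c h => yon_cancel (sqν.hom_ext
    (by rw [← Functor.map_comp, ← Functor.map_comp, ← hjt, reassoc_of% h])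
    (by rw [← Functor.map_comp, ← Functor.map_comp, ← hjs, reassoc_of% h]))⟩
  have : Mono j.left := inferInstanceAs (Mono ((Over.forget S).map j))
  have : Etale j.left := by
    have : Etale (j.left ≫ ρt.left) := by rw [← Over.comp_left, hjt]; exact ht'e
    exact Etale.of_comp j.left ρt.left
  have : IsOpenImmersion j.left := IsOpenImmersion.of_flat_of_mono j.left
  let O : R₀.left.Opens := ⟨π₀.left '' Set.range j.left, hπ₀.isOpenMap _ j.left.isOpenEmbedding.isOpen_range⟩
  let R : Over S := Over.mk (O.ι ≫ R₀.hom)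
  let ι : R ⟶ R₀ := Over.homMk O.ι rfl
  have : IsOpenImmersion ι.left := inferInstanceAs (IsOpenImmersion O.ι)
  have hι : Set.range ι.left = (O : Set R₀.left) := O.range_ι
  have het : Etale (ι ≫ t).left := by rw [Over.comp_left]; infer_instance
  have hes : Etale (ι ≫ s).left := by rw [Over.comp_left]; infer_instance
  refine ⟨R, ι ≫ t, ι ≫ s, het, hes, fun T r r' h₁ h₂ => ?_, fun T x y h => ?_, fun T x y => ⟨?_, ?_⟩⟩
  · have h : r ≫ ι = r' ≫ ι := yon_cancel (sq₀.hom_ext
      (by rw [← Functor.map_comp, ← Functor.map_comp]; simpa [Category.assoc] using congrArg (yon S).map h₁)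
      (by rw [← Functor.map_comp, ← Functor.map_comp]; simpa [Category.assoc] using congrArg (yon S).map h₂))
    exact Over.OverMorphism.ext ((cancel_mono ι.left).1 (congrArg (fun m : T ⟶ R₀ => m.left) h))
  · obtain ⟨z, hz⟩ := (yon S).map_surjective (sqν.lift _ _ h)
    have hzt : z ≫ t' = x := yon_cancel (by rw [Functor.map_comp, hz, sqν.lift_fst])
    have hzs : z ≫ s' = y := yon_cancel (by rw [Functor.map_comp, hz, sqν.lift_snd])
    have hr : Set.range k.left ⊆ Set.range ι.left := by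
      rintro _ ⟨w, rfl⟩
      rw [hι]
      exact ⟨j.left w, ⟨_, rfl⟩, congrArg (fun m : R' ⟶ R₀ => m.left w) hjπ⟩
    let r : R' ⟶ R := Over.homMk (IsOpenImmersion.lift ι.left k.left hr) (by
      rw [← Over.w ι, IsOpenImmersion.lift_fac_assoc, Over.w k])
    have hr' : r ≫ ι = k := Over.OverMorphism.ext (IsOpenImmersion.lift_fac _ _ _)
    exact ⟨z ≫ r, by rw [Category.assoc, reassoc_of% hr', hkt, reassoc_of% hzt],
      by rw [Category.assoc, reassoc_of% hr', hks, reassoc_of% hzs]⟩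
  · rintro ⟨r, rfl, rfl⟩
    refine ⟨by simp only [Functor.map_comp, Category.assoc, sq₀.w], fun T' v x y hx hy hp => ?_⟩
    obtain ⟨z, hz⟩ := (yon S).map_surjective (sqX.lift ((yon S).map x ≫ p) ((yon S).map (v ≫ r ≫ ι)) (by
      simp only [g₀, Category.assoc]
      rw [sq.w, ← Functor.map_comp_assoc, ← Functor.map_comp_assoc, hx]
      simp only [Category.assoc]))
    have hzq : (yon S).map z ≫ q₀ = (yon S).map x ≫ p := by rw [hz, sqX.lift_fst]
    have hzπ : z ≫ π₀ = v ≫ r ≫ ι := yon_cancel (by rw [Functor.map_comp, hz, sqX.lift_snd])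
    have hr : Set.range z.left ⊆ Set.range j.left := by
      rintro _ ⟨w, rfl⟩
      have hw : π₀.left (z.left w) ∈ O := by
        rw [← SetLike.mem_coe, ← hι]
        refine ⟨r.left (v.left w), ?_⟩
        rw [← Scheme.Hom.comp_apply, ← Scheme.Hom.comp_apply, ← Scheme.Hom.comp_apply,
          ← Over.comp_left, ← Over.comp_left, ← Over.comp_left, ← hzπ]
      obtain ⟨a, ha, hae⟩ := hw
      rwa [← hπ₀.injective hae]
    let z' : T' ⟶ R' := Over.homMk (IsOpenImmersion.lift j.left z.left hr) (by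
      rw [← Over.w j, IsOpenImmersion.lift_fac_assoc, Over.w z])
    have hz' : z' ≫ j = z := Over.OverMorphism.ext (IsOpenImmersion.lift_fac _ _ _)
    have hx' : z' ≫ t' = x := yon_cancel (sq.hom_ext
      (by rw [← hjt, reassoc_of% hz', Functor.map_comp, Category.assoc, hρtp, hzq])
      (by rw [← hjt, reassoc_of% hz', ← Functor.map_comp, ← Functor.map_comp, Category.assoc, hρtπ,
        reassoc_of% hzπ, hx]))
    have hy' : z' ≫ s' = y := yon_cancel (sq.hom_ext
      (by rw [← hjs, reassoc_of% hz', Functor.map_comp, Category.assoc, hρsp, hzq, hp])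
      (by rw [← hjs, reassoc_of% hz', ← Functor.map_comp, ← Functor.map_comp, Category.assoc, hρsπ,
        reassoc_of% hzπ, hy]))
    rw [← hx', ← hy', Functor.map_comp, Functor.map_comp, Category.assoc, Category.assoc, sqν.w]
  · rintro ⟨hxy, h⟩
    obtain ⟨r₀, hr₀⟩ := (yon S).map_surjective (sq₀.lift _ _ hxy)
    have hr₀t : r₀ ≫ t = x := yon_cancel (by rw [Functor.map_comp, hr₀, sq₀.lift_fst])
    have hr₀s : r₀ ≫ s = y := yon_cancel (by rw [Functor.map_comp, hr₀, sq₀.lift_snd])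
    let g := (yon S).map x ≫ ε
    let T' := hf.rep.1.pullback g
    let v : T' ⟶ T := hf.rep.1.snd g
    have sqT : IsPullback (hf.rep.1.fst g) ((yon S).map v) f g := hf.rep.1.isPullback g
    have : Surjective v.left := (hf.sch sqT).2.2
    obtain ⟨x', hx'⟩ := (yon S).map_surjective (sq.lift (hf.rep.1.fst g) ((yon S).map (v ≫ x)) (by
      rw [sqT.w, Functor.map_comp, Category.assoc]))
    obtain ⟨y', hy'⟩ := (yon S).map_surjective (sq.lift (hf.rep.1.fst g) ((yon S).map (v ≫ y)) (by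
      rw [sqT.w, Functor.map_comp, Category.assoc, ← hxy]))
    have hx'π : x' ≫ π = v ≫ x := yon_cancel (by rw [Functor.map_comp, hx', sq.lift_snd])
    have hy'π : y' ≫ π = v ≫ y := yon_cancel (by rw [Functor.map_comp, hy', sq.lift_snd])
    have e := h v x' y' hx'π hy'π (by rw [hx', hy', sq.lift_fst, sq.lift_fst])
    obtain ⟨z, hz⟩ := (yon S).map_surjective (sqν.lift _ _ e)
    have hzt : z ≫ t' = x' := yon_cancel (by rw [Functor.map_comp, hz, sqν.lift_fst])
    have hzs : z ≫ s' = y' := yon_cancel (by rw [Functor.map_comp, hz, sqν.lift_snd])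
    have hzk : z ≫ k = v ≫ r₀ := yon_cancel (sq₀.hom_ext
      (by rw [← Functor.map_comp, ← Functor.map_comp, Category.assoc, Category.assoc, hkt, hr₀t,
        reassoc_of% hzt, hx'π])
      (by rw [← Functor.map_comp, ← Functor.map_comp, Category.assoc, Category.assoc, hks, hr₀s,
        reassoc_of% hzs, hy'π]))
    have hr : Set.range r₀.left ⊆ Set.range ι.left := by
      rintro _ ⟨w, rfl⟩
      obtain ⟨w', rfl⟩ := v.left.surjective w
      rw [hι]
      refine ⟨j.left (z.left w'), ⟨_, rfl⟩, ?_⟩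
      rw [← Scheme.Hom.comp_apply, ← Scheme.Hom.comp_apply, ← Scheme.Hom.comp_apply, ← Over.comp_left,
        ← Over.comp_left, ← Over.comp_left, ← hzk, hjπ]
    let r : T ⟶ R := Over.homMk (IsOpenImmersion.lift ι.left r₀.left hr) (by
      rw [← Over.w ι, IsOpenImmersion.lift_fac_assoc, Over.w r₀])
    have hr' : r ≫ ι = r₀ := Over.OverMorphism.ext (IsOpenImmersion.lift_fac _ _ _)
    exact ⟨r, by rw [reassoc_of% hr', hr₀t], by rw [reassoc_of% hr', hr₀s]⟩

set_option maxHeartbeats 1600000 in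
/-- An étale space over `X` covered by the base change of an étale scheme over `Y` descends to `Y`. -/
theorem exists_descend (hY : IsAlgSpace Y) (hX : IsAlgSpace X) (hV : IsAlgSpace V) (hf : IsUH f)
    (sq : IsPullback p ((yon S).map π) f ε) (hε : RepWith @Etale ε) (hν : RepWith @Etale ν)
    (hνs : RepWith @Surjective ν) (hνb : ν ≫ b = p) :
    ∃ (V' : Sp S) (_ : IsAlgSpace V') (a : V' ⟶ Y) (c : V ⟶ V'),
      IsEtaleMor a ∧ IsPullback b c f a := by
  obtain ⟨R, t, s, hte, hse, hinj, hup, hR⟩ := exists_relation hY hV hf sq hε hν hνb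
  have hrel : ∀ T : Over S, Equivalence (Rel ε π p ν (T := T)) := rel_equivalence sq
  have hiff : ∀ ⦃T : Over S⦄ (x y : T ⟶ E), (∃ r : T ⟶ R, r ≫ t = x ∧ r ≫ s = y) ↔
      Rel ε π p ν x y := hR
  have heq : IsEqvRel s t :=
    { injective := fun T r r' h₁ h₂ => hinj r r' h₁ h₂
      equivalence := fun T => ⟨fun x => (hiff x x).2 ((hrel T).refl x),
        fun h => (hiff _ _).2 ((hrel T).symm ((hiff _ _).1 h)),
        fun h h' => (hiff _ _).2 ((hrel T).trans ((hiff _ _).1 h) ((hiff _ _).1 h'))⟩ }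
  obtain ⟨w, ⟨hc⟩⟩ := nonempty_isColimit_quot s t
  let V' := QuotSh.quot Scheme.fppfPrecoverage s t
  let q : (yon S).obj E ⟶ V' := (QuotSh.repIsoUliftYoneda Scheme.fppfPrecoverage E).inv ≫
    QuotSh.quotπ Scheme.fppfPrecoverage s t
  have : Sheaf.IsLocallySurjective q := isLocallySurjective_quotπ s t
  have sqq : IsPullback ((yon S).map t) ((yon S).map s) q q := isPullback_of_isEqvRel heq w hc
  obtain ⟨hV', hqe, hqs⟩ := isAlgSpace_of_etale_kernelPair sqq hte hse
  obtain ⟨a, ha⟩ := Cofork.IsColimit.desc' hc ε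
    ((hR t s).1 ⟨𝟙 R, Category.id_comp _, Category.id_comp _⟩).1.symm
  rw [Cofork.π_ofπ] at ha
  have hqa : q ≫ a = ε := ha
  have ha_et : IsEtaleMor a := AlgSpDescent.isEtaleMor_of_locP_etale hV' hY
    (locP_of_source_cover hY hqe hqs (by rw [hqa]; exact locP_of_repWith hY hε))
  have key : ∀ ⦃T : Over S⦄ (x y : T ⟶ EX), (yon S).map x ≫ p = (yon S).map y ≫ p →
      ((yon S).map x ≫ ν = (yon S).map y ≫ ν ↔
        (yon S).map x ≫ (yon S).map π ≫ q = (yon S).map y ≫ (yon S).map π ≫ q) := by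
    intro T x y hp
    constructor
    · intro h
      obtain ⟨r, hr₁, hr₂⟩ := hup x y h
      rw [← Functor.map_comp_assoc, ← Functor.map_comp_assoc, ← hr₁, ← hr₂, Functor.map_comp,
        Functor.map_comp, Category.assoc, Category.assoc, sqq.w]
    · intro h
      obtain ⟨r, hr⟩ := (yon S).map_surjective (sqq.lift ((yon S).map (x ≫ π)) ((yon S).map (y ≫ π))
        (by simpa only [Functor.map_comp, Category.assoc] using h))
      have hr₁ : r ≫ t = x ≫ π := yon_cancel (by rw [Functor.map_comp, hr, sqq.lift_fst])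
      have hr₂ : r ≫ s = y ≫ π := yon_cancel (by rw [Functor.map_comp, hr, sqq.lift_snd])
      exact ((hiff _ _).1 ⟨r, hr₁, hr₂⟩).2 (𝟙 T) x y (by rw [Category.id_comp]) (by rw [Category.id_comp]) hp
  have hνl : Sheaf.IsLocallySurjective ν := isLocallySurjective_of_etale hν hνs
  have : Epi ν := (CategoryTheory.Sheaf.isLocallySurjective_iff_epi _).1 hνl
  have sqν := hν.1.isPullback ν
  obtain ⟨t', ht'⟩ := (yon S).map_surjective (hν.1.fst ν)
  rw [← ht'] at sqν
  obtain ⟨hcν⟩ := nonempty_isColimit_cofork ν sqν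
  have hpp : (yon S).map t' ≫ p = (yon S).map (hν.1.snd ν) ≫ p := by
    rw [← hνb, ← Category.assoc, ← Category.assoc, sqν.w]
  obtain ⟨c, hc'⟩ := Cofork.IsColimit.desc' hcν ((yon S).map π ≫ q) ((key _ _ hpp).1 sqν.w)
  rw [Cofork.π_ofπ] at hc'
  have hw : b ≫ f = c ≫ a := by
    rw [← cancel_epi ν, reassoc_of% hνb, reassoc_of% hc', hqa]
    exact sq.w
  refine ⟨V', hV', a, c, ha_et, ?_⟩
  let γ : V ⟶ pullback f a := pullback.lift b c hw
  have sqP : IsPullback (ν ≫ γ) ((yon S).map π) (pullback.snd f a) q :=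
    IsPullback.of_right (by
        rw [Category.assoc, pullback.lift_fst, hνb, hqa]
        exact sq)
      (by rw [Category.assoc, pullback.lift_snd, hc']) (IsPullback.of_hasPullback f a)
  have hPl : Sheaf.IsLocallySurjective (ν ≫ γ) :=
    isLocallySurjective_of_etale (repWith_of_isPullback sqP.flip hqe) (repWith_of_isPullback sqP.flip hqs)
  have : Epi (ν ≫ γ) := (CategoryTheory.Sheaf.isLocallySurjective_iff_epi _).1 hPl
  have : Epi γ := epi_of_epi ν γ
  have : Mono γ := mono_of_yon _ fun T x y hxy => by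
    obtain ⟨T₁, v₁, lx, hf₁, hs₁, hl₁, hlx⟩ := exists_single_cover_lift ν x
    obtain ⟨T₂, v₂, ly, hf₂, hs₂, hl₂, hly⟩ := exists_single_cover_lift ν ((yon S).map v₁ ≫ y)
    obtain ⟨X', hX'⟩ := (yon S).map_surjective ((yon S).map v₂ ≫ lx)
    obtain ⟨Y', hY'⟩ := (yon S).map_surjective ly
    have h₁ : (yon S).map X' ≫ ν = (yon S).map (v₂ ≫ v₁) ≫ x := by
      rw [hX', Functor.map_comp, Category.assoc, Category.assoc, hlx]
    have h₂ : (yon S).map Y' ≫ ν = (yon S).map (v₂ ≫ v₁) ≫ y := by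
      rw [hY', Functor.map_comp, Category.assoc, hly]
    have hb := hxy =≫ pullback.fst f a
    have hq' := hxy =≫ pullback.snd f a
    simp only [γ, Category.assoc, pullback.lift_fst, pullback.lift_snd] at hb hq'
    have hp : (yon S).map X' ≫ p = (yon S).map Y' ≫ p := by
      rw [← hνb, reassoc_of% h₁, reassoc_of% h₂, hb]
    have e := (key X' Y' hp).2 (by rw [← hc', reassoc_of% h₁, reassoc_of% h₂, hq'])
    rw [h₁, h₂] at e
    have : Surjective (v₂ ≫ v₁).left := by rw [Over.comp_left]; infer_instance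
    have : Flat (v₂ ≫ v₁).left := by rw [Over.comp_left]; infer_instance
    have : LocallyOfFinitePresentation (v₂ ≫ v₁).left := by rw [Over.comp_left]; infer_instance
    have hv : Sheaf.IsLocallySurjective ((yon S).map (v₂ ≫ v₁)) :=
      isLocallySurjective_of_repWith _ ((repWith_yon_map_iff _ _).2 ‹_›)
        ((repWith_yon_map_iff _ _).2 ‹_›) ((repWith_yon_map_iff _ _).2 ‹_›)
    have : Epi ((yon S).map (v₂ ≫ v₁)) := (CategoryTheory.Sheaf.isLocallySurjective_iff_epi _).1 hv
    exact (cancel_epi _).1 e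
  have : IsIso γ := isIso_of_mono_of_epi γ
  exact IsPullback.of_iso_pullback ⟨hw⟩ (asIso γ) (pullback.lift_fst _ _ _) (pullback.lift_snd _ _ _)

end Groth.Agent.TopInv15
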