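import Groth.Agent.Lib.TopInv15.Exists
import Groth.Agent.Lib.AlgSpace.LqfScheme
import Groth.Agent.Lib.AlgSpace.SchemeLocus
import Groth.Agent.Lib.AlgSpace.Sub

/-!
# Étale spaces over a scheme which become schemes after a universal homeomorphism are schemes
-/

universe u

set_option backward.isDefEq.respectTransparency.types false

open CategoryTheory CategoryTheory.Limits AlgebraicGeometry Opposite

namespace Groth.Agent.TopInv15

open AlgSp Groth.Agent.AlgSpace Groth.Agent.AlgSpDecent

variable {S : Scheme.{u}}

lemma repWith_closedImmersion_of_open_closed {F G : Sp S} {j : F ⟶ G}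
    (hj : RepWith @IsOpenImmersion j) (hc : IsClosed (Set.range (Points.map j))) :
    RepWith @IsClosedImmersion j := ⟨hj.1, fun T V g fst snd sq => by
  have : IsOpenImmersion snd.left := hj.2 g fst snd sq
  have : IsImmersion snd.left := inferInstance
  refine IsClosedImmersion.of_isPreimmersion snd.left ?_
  have e : Points.ofPt g ⁻¹' Set.range (Points.map j) = Set.range snd.left := by
    ext t
    constructor
    · rintro ⟨y, hy⟩
      obtain ⟨v, -, hv⟩ := exists_pt_of_isPullback sq hy
      exact ⟨v, hv⟩
    · rintro ⟨v, rfl⟩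
      exact ⟨Points.ofPt fst v, ofPt_sq sq.w v⟩
  rw [← e]
  exact hc.preimage (Points.continuous_ofPt _)⟩

/-- An étale space over a scheme covered by a separated scheme through a universal homeomorphism is
separated. -/
theorem isSeparatedMor_of_cover {T U : Over S} {W : Sp S} (hW : IsAlgSpace W) {j : W ⟶ (yon S).obj T}
    (hj : RepWith @IsOpenImmersion (pullback.diagonal j)) {c : (yon S).obj U ⟶ W} (hc : IsUH c) {h : U ⟶ T}
    [IsSeparated h.left] (w : c ≫ j = (yon S).map h) : IsSeparatedMor j := by
  refine repWith_closedImmersion_of_open_closed hj ?_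
  let d := c ≫ j
  let m₁ : pullback d d ⟶ pullback j d :=
    pullback.map d d j d c (𝟙 _) (𝟙 _) (by simp [d]) (by simp)
  let m₂ : pullback j d ⟶ pullback j j :=
    pullback.map j d j j (𝟙 _) c (𝟙 _) (by simp) (by simp [d])
  have hU := IsAlgSpace.yon_obj U
  have sq₁ : IsPullback (pullback.fst d d) m₁ c (pullback.fst j d) := by
    refine IsPullback.of_bot ?_ (by simp [m₁, pullback.lift_fst]) (IsPullback.of_hasPullback j d)
    have : m₁ ≫ pullback.snd j d = pullback.snd d d := by simp [m₁, pullback.lift_snd]
    rw [this]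
    exact IsPullback.of_hasPullback d d
  have sq₂ : IsPullback (pullback.snd j d) m₂ c (pullback.snd j j) := by
    refine IsPullback.of_bot ?_ (by simp [m₂, pullback.lift_snd]) (IsPullback.of_hasPullback j j).flip
    have : m₂ ≫ pullback.fst j j = pullback.fst j d := by simp [m₂, pullback.lift_fst]
    rw [this]
    exact (IsPullback.of_hasPullback j d).flip
  have hjd : IsAlgSpace (pullback j d) :=
    isAlgSpace_pullback (IsAlgSpace.yon_obj T) hW hU (IsPullback.of_hasPullback j d)
  have hjj : IsAlgSpace (pullback j j) :=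
    isAlgSpace_pullback (IsAlgSpace.yon_obj T) hW hW (IsPullback.of_hasPullback j j)
  have hm₁ := hc.homeo hjd sq₁
  have hm₂ := hc.homeo hjj sq₂
  have hdiag : RepWith @IsClosedImmersion (pullback.diagonal d) := by
    have : ∀ d' : (yon S).obj U ⟶ (yon S).obj T, d' = (yon S).map h →
        RepWith @IsClosedImmersion (pullback.diagonal d') := by
      rintro _ rfl
      exact (repWith_diagonal_yon_map_iff _ h).2 (inferInstanceAs (IsClosedImmersion (pullback.diagonal h.left)))
    exact this d w
  have hcl := isClosed_range_map_of_closedImmersion hdiag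
  have e : pullback.diagonal d ≫ m₁ ≫ m₂ = c ≫ pullback.diagonal j := by
    apply pullback.hom_ext <;> simp [m₁, m₂, pullback.lift_fst, pullback.lift_snd,
      pullback.lift_fst_assoc, pullback.lift_snd_assoc]
  have hr : Set.range (Points.map (pullback.diagonal j)) =
      Points.map m₂ '' (Points.map m₁ '' Set.range (Points.map (pullback.diagonal d))) := by
    have hcs := surjective_map_of_repWith hc.surj
    ext z
    constructor
    · rintro ⟨x, rfl⟩
      obtain ⟨y, rfl⟩ := hcs x
      refine ⟨_, ⟨_, ⟨y, rfl⟩, rfl⟩, ?_⟩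
      simp only [← Points.map_comp, Category.assoc, e]
    · rintro ⟨_, ⟨_, ⟨y, rfl⟩, rfl⟩, rfl⟩
      exact ⟨Points.map c y, by simp only [← Points.map_comp, Category.assoc, e]⟩
  rw [hr]
  exact hm₂.homeomorph.isClosedMap _ (hm₁.homeomorph.isClosedMap _ hcl)

/-- An étale space over a scheme whose base change along a universal homeomorphism is a scheme is a
scheme. -/
theorem exists_iso_yon_of_baseChange {T X₀ V : Over S} (i : X₀ ⟶ T) (hi : IsUH ((yon S).map i))
    (g : V ⟶ X₀) {V' : Sp S} (hV' : IsAlgSpace V') (a : V' ⟶ (yon S).obj T) (ha : IsEtaleMor a)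
    {c : (yon S).obj V ⟶ V'} (sq : IsPullback ((yon S).map g) c ((yon S).map i) a) :
    ∃ G : Over S, Nonempty ((yon S).obj G ≅ V') := by
  have hc : IsUH c := hi.of_isPullback sq
  have hhom := hi.homeo hV' sq
  have hiI : IsIntegralHom i.left := (repWith_yon_map_iff _ _).1 hi.rep
  have hal := AlgSpDescent.locP_etale_of_isEtaleMor ha
  have key : ∀ v : V.left, ∃ (G : Over S) (w : (yon S).obj G ⟶ V'),
      RepWith @IsOpenImmersion w ∧ Points.map c (Points.ofScheme V v) ∈ Set.range (Points.map w) := by
    intro v
    obtain ⟨D, hD, hvD, -⟩ :=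
      exists_isAffineOpen_mem_and_subset (X := X₀.left) (x := g.left v) (U := ⊤) trivial
    obtain ⟨O, hO, hvO, hOD⟩ :=
      exists_isAffineOpen_mem_and_subset (X := V.left) (x := v) (U := g.left ⁻¹ᵁ D) hvD
    let UO : Over S := Over.mk (O.ι ≫ V.hom)
    let ιO : UO ⟶ V := Over.homMk O.ι rfl
    have : IsAffine UO.left := hO
    have hιO : RepWith @IsOpenImmersion ((yon S).map ιO) :=
      (repWith_yon_map_iff _ _).2 (inferInstanceAs (IsOpenImmersion O.ι))
    let W : Set (Points V') := Points.map c '' Set.range (Points.map ((yon S).map ιO))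
    have hW : IsOpen W := hhom.isOpenMap _ (isOpen_range_map_of_openImmersion hιO)
    have hι := repWith_openSubι hW
    have hWs : IsAlgSpace (openSub W) := isAlgSpace_of_representable hι.1 hV'
    have sqW := IsPullback.of_hasPullback c (openSubι W)
    have hleft : RepWith @IsOpenImmersion (pullback.fst c (openSubι W)) := repWith_of_isPullback sqW.flip hι
    obtain ⟨l, hl⟩ := exists_factor_openSub (W := W) ((yon S).map ιO ≫ c) (by
      rintro _ ⟨t, rfl⟩
      exact ⟨_, ⟨t, rfl⟩, (Points.map_comp _ _ _).symm⟩)
    obtain ⟨k, hk⟩ := exists_factor_of_range hιO (pullback.fst c (openSubι W)) (by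
      rintro _ ⟨t, rfl⟩
      have hm : Points.map c (Points.map (pullback.fst c (openSubι W)) t) ∈ W := by
        rw [← Points.map_comp, pullback.condition, Points.map_comp]
        exact (range_openSubι W).le ⟨_, rfl⟩
      obtain ⟨y, hy, hye⟩ := hm
      rwa [← hhom.injective hye])
    have hmono : Mono ((yon S).map ιO) :=
      mono_of_isImmersion (repWith_mono (fun A B k (hk : IsOpenImmersion k) => (inferInstance : IsImmersion k)) hιO)
    let n : (yon S).obj UO ⟶ pullback c (openSubι W) := pullback.lift ((yon S).map ιO) l hl.symm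
    have : IsIso n := by
      refine ⟨k, ?_, ?_⟩
      · rw [← cancel_mono ((yon S).map ιO), Category.assoc, hk, pullback.lift_fst, Category.id_comp]
      · apply pullback.hom_ext
        · rw [Category.assoc, pullback.lift_fst, hk, Category.id_comp]
        · rw [Category.assoc, pullback.lift_snd, Category.id_comp, ← cancel_mono (openSubι W),
            Category.assoc, hl, reassoc_of% hk, pullback.condition]
    have hcW : IsUH l := hc.of_isPullback (fst := (yon S).map ιO) (g := openSubι W)
      (IsPullback.of_iso_pullback ⟨hl.symm⟩ (asIso n) (pullback.lift_fst _ _ _) (pullback.lift_snd _ _ _))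
    let j : openSub W ⟶ (yon S).obj T := openSubι W ≫ a
    have hje : LocP @Etale j := locP_comp hWs hV' (IsAlgSpace.yon_obj T)
      (locP_of_repWith hV' (repWith_mono (fun A B k hk => by
        have : IsOpenImmersion k := hk
        infer_instance) hι)) hal
    have hlj : l ≫ j = (yon S).map (ιO ≫ g ≫ i) := by
      rw [reassoc_of% hl, ← sq.w, Functor.map_comp, Functor.map_comp]
    have : IsSeparated (ιO ≫ g ≫ i).left := by
      have : IsAffine (D : Scheme.{u}) := hD
      rw [Over.comp_left, Over.comp_left]
      have e : ιO.left ≫ g.left = g.left.resLE D O hOD ≫ D.ι := (Scheme.Hom.resLE_comp_ι _ hOD).symm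
      rw [← Category.assoc, e, Category.assoc]
      have : IsAffine (O : Scheme.{u}) := hO
      have : IsAffineHom (g.left.resLE D O hOD) := isAffineHom_of_isAffine _
      infer_instance
    have hsep : IsSeparatedMor j := isSeparatedMor_of_cover hWs
      (repWith_diagonal_isOpenImmersion_of_unramified hWs (IsAlgSpace.yon_obj T)
        (locP_mono (le_inf AlgSpDescent.etale_le_lft AlgSpDescent.etale_le_fu) hje)) hcW hlj
    obtain ⟨G, ⟨e⟩⟩ := exists_iso_yon_of_lqf_separated hWs j hsep
      (locP_mono (fun A B g hg => by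
        have : Etale g := hg
        exact ⟨locallyQuasiFinite_of_unramified g, inferInstance⟩) hje)
    refine ⟨G, e.hom ≫ openSubι W, (repWith_respectsIso_left _).2 hι, ?_⟩
    rw [map_comp_eq, Set.range_comp, (bijective_map_iso (e := e.hom)).2.range_eq, Set.image_univ,
      range_openSubι]
    refine ⟨_, ⟨Points.ofScheme UO ⟨v, hvO⟩, rfl⟩, ?_⟩
    congr 1
    rw [← Points.ofPt_eq_map_ofScheme, ofPt_map_eq]
    rfl
  choose G w hw hwv using key
  exact exists_iso_yon_of_points_cover hw fun x => by
    obtain ⟨y, rfl⟩ := hhom.surjective x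
    obtain ⟨v, rfl⟩ := (Points.schemeEquiv V).surjective y
    exact ⟨v, hwv v⟩

end Groth.Agent.TopInv15
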